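import Groth.Agent.Unibranch.Radicial
import Mathlib.FieldTheory.PurelyInseparable.Basic
import Mathlib.RingTheory.Localization.Integer

/-!
# Integral models of finite purely inseparable extensions
-/

set_option autoImplicit false
set_option linter.style.haveILetI false

universe u

open Groth.Agent.RadicialLib

noncomputable section

namespace Groth.Agent.SmoothStrat

/-- Cancellation of powers of the exponential characteristic. -/
theorem eq_of_pow_expChar_eq {B K F : Type u} [CommRing B] [Field K] [Field F] (q : ℕ)
    [ExpChar K q] (i : B →+* K) (hi : Function.Injective i) (φ : B →+* F) (n : ℕ) {a b : F}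
    (h : a ^ q ^ n = b ^ q ^ n) : a = b := by
  rcases ‹ExpChar K q› with ⟨⟩ | ⟨hq⟩
  · simpa using h
  · haveI : Fact q.Prime := ⟨hq⟩
    haveI : CharP F q := (CharP.charP_iff_prime_eq_zero hq).2 (by
      rw [← map_natCast φ q, show (q : B) = 0 from hi (by rw [map_natCast, map_zero, CharP.cast_eq_zero]),
        map_zero])
    haveI : ExpChar F q := ExpChar.prime hq
    exact iterateFrobenius_inj F q n (by simpa [iterateFrobenius_def] using h)

variable (B K L : Type u) [CommRing B] [IsDomain B] [Field K] [Algebra B K] [IsFractionRing B K]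
  [Field L] [Algebra K L] [Algebra B L] [IsScalarTower B K L]

theorem exists_model [FiniteDimensional K L] [IsPurelyInseparable K L] :
    ∃ B' : Subalgebra B L, Module.Finite B B' ∧ IsFractionRing B' L ∧ FieldEpi B B' := by
  classical
  let q := ringExpChar K
  haveI hK : ExpChar K q := inferInstance
  haveI : ExpChar B q := RingHom.expChar (algebraMap B K) (IsFractionRing.injective B K) q
  have hy : ∀ z : L, ∃ (c b : B) (n : ℕ), c ≠ 0 ∧
      (algebraMap B L c * z) ^ q ^ n = algebraMap B L b := by
    intro z
    obtain ⟨n, w, hw⟩ := IsPurelyInseparable.pow_mem K q z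
    obtain ⟨b, c, hc, rfl⟩ := IsFractionRing.div_surjective B w
    have hc0 : c ≠ 0 := nonZeroDivisors.ne_zero hc
    obtain ⟨N, hN⟩ : ∃ N, q ^ n = N + 1 :=
      ⟨q ^ n - 1, (Nat.succ_pred_eq_of_pos (pow_pos (expChar_pos K q) n)).symm⟩
    refine ⟨c, c ^ N * b, n, hc0, ?_⟩
    have hcL : algebraMap B L c ≠ 0 := by
      rw [IsScalarTower.algebraMap_apply B K L]
      exact (map_ne_zero _).2 ((map_ne_zero_iff _ (IsFractionRing.injective B K)).2 hc0)
    rw [map_div₀, ← IsScalarTower.algebraMap_apply, ← IsScalarTower.algebraMap_apply] at hw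
    rw [mul_pow, ← hw, hN, map_mul, map_pow]
    field_simp
    ring
  choose c b n hc hy using hy
  let bs := Module.finBasis K L
  let G : Set L := Set.range fun i => algebraMap B L (c (bs i)) * bs i
  let B' := Algebra.adjoin B G
  have hint : ∀ g ∈ G, IsIntegral B g := by
    rintro _ ⟨i, rfl⟩
    refine IsIntegral.of_pow (pow_pos (expChar_pos K q) (n (bs i))) ?_
    rw [hy]
    exact isIntegral_algebraMap
  have hfin : Module.Finite B B' :=
    Module.Finite.iff_fg.2 (fg_adjoin_of_finite (Set.finite_range _) hint)
  refine ⟨B', hfin, ?_, ?_⟩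
  · refine IsFractionRing.of_field B' L fun z => ?_
    have key : ∀ z : L, ∃ d : B, d ≠ 0 ∧ algebraMap B L d * z ∈ B' := by
      intro z
      have hz : z ∈ Submodule.span K (Set.range bs) := by rw [bs.span_eq]; trivial
      induction hz using Submodule.span_induction with
      | mem x hx =>
        obtain ⟨i, rfl⟩ := hx
        exact ⟨c (bs i), hc _, Algebra.subset_adjoin ⟨i, rfl⟩⟩
      | zero => exact ⟨1, one_ne_zero, by simpa using B'.zero_mem⟩
      | add x y _ _ hx hy =>
        obtain ⟨d, hd, hdx⟩ := hx
        obtain ⟨e, he, hey⟩ := hy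
        refine ⟨d * e, mul_ne_zero hd he, ?_⟩
        rw [map_mul, show algebraMap B L d * algebraMap B L e * (x + y) =
          algebraMap B L e * (algebraMap B L d * x) + algebraMap B L d * (algebraMap B L e * y) by ring]
        exact add_mem (mul_mem (B'.algebraMap_mem e) hdx) (mul_mem (B'.algebraMap_mem d) hey)
      | smul a x _ hx =>
        obtain ⟨d, hd, hdx⟩ := hx
        obtain ⟨u, v, hv, rfl⟩ := IsFractionRing.div_surjective B a
        have hv0 : v ≠ 0 := nonZeroDivisors.ne_zero hv
        refine ⟨v * d, mul_ne_zero hv0 hd, ?_⟩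
        have hvL : algebraMap B L v ≠ 0 := by
          rw [IsScalarTower.algebraMap_apply B K L]
          exact (map_ne_zero _).2 ((map_ne_zero_iff _ (IsFractionRing.injective B K)).2 hv0)
        rw [Algebra.smul_def, map_div₀, ← IsScalarTower.algebraMap_apply,
          ← IsScalarTower.algebraMap_apply, map_mul]
        rw [show algebraMap B L v * algebraMap B L d * (algebraMap B L u / algebraMap B L v * x) =
          algebraMap B L u * (algebraMap B L d * x) by field_simp]
        exact mul_mem (B'.algebraMap_mem u) hdx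
    obtain ⟨d, hd, hdz⟩ := key z
    refine ⟨⟨_, hdz⟩, algebraMap B B' d, ?_⟩
    show z = algebraMap B L d * z / algebraMap B L d
    rw [mul_div_assoc, mul_comm, div_mul_cancel₀]
    rw [IsScalarTower.algebraMap_apply B K L]
    exact (map_ne_zero _).2 ((map_ne_zero_iff _ (IsFractionRing.injective B K)).2 hd)
  · refine fieldEpi_of_adjoin (Subtype.val ⁻¹' G) Algebra.adjoin_adjoin_coe_preimage ?_
    rintro ⟨x, hxB⟩ ⟨i, hi⟩ F _ f g hfg
    have hxq : (⟨x, hxB⟩ : B') ^ q ^ n (bs i) = algebraMap B B' (b (bs i)) := by
      apply Subtype.ext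
      show x ^ q ^ n (bs i) = algebraMap B L (b (bs i))
      rw [← hy, ← show _ = x from hi]
    have hfg' : f ⟨x, hxB⟩ ^ q ^ n (bs i) = g ⟨x, hxB⟩ ^ q ^ n (bs i) := by
      rw [← map_pow, ← map_pow, hxq]
      exact RingHom.congr_fun hfg (b (bs i))
    exact eq_of_pow_expChar_eq q (algebraMap B K) (IsFractionRing.injective B K)
      (f.comp (algebraMap B B')) _ hfg'

end Groth.Agent.SmoothStrat
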