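import Groth.Agent.ModPairLib.Approx
import Mathlib.AlgebraicGeometry.IdealSheaf.Functorial
import Mathlib.AlgebraicGeometry.Morphisms.Smooth

/-!
# Smoothness stratifications by ideal sheaves of finite type
-/

set_option autoImplicit false
set_option linter.style.haveILetI false

universe u

open CategoryTheory CategoryTheory.Limits AlgebraicGeometry

noncomputable section

namespace Groth.Agent.SmoothStrat

variable {X V : Scheme.{u}}

/-- The open piece of `V(J)` outside of `V(J')`. -/
abbrev pieceι (J J' : X.IdealSheafData) : ((J.subschemeι ⁻¹ᵁ J'.support.compl : _) : Scheme.{u}) ⟶ X :=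
  (J.subschemeι ⁻¹ᵁ J'.support.compl).ι ≫ J.subschemeι

/-- `g : X ⟶ V` has a stratification with smooth strata. -/
def HasStrat (g : X ⟶ V) : Prop :=
  ∃ (t : ℕ) (J : Fin (t + 1) → X.IdealSheafData), Monotone J ∧ J (Fin.last t) = ⊤ ∧
    ((J 0).support : Set X) = Set.univ ∧ (∀ i, ∀ O : X.affineOpens, ((J i).ideal O).FG) ∧
    ∀ i : Fin t, Smooth (pieceι (J i.castSucc) (J i.succ) ≫ g)

theorem isPullback_piece {X' : Scheme.{u}} (q : X' ⟶ X) (J J' : X.IdealSheafData) :
    ∃ m, IsPullback m (pieceι (J.comap q) (J'.comap q)) (pieceι J J') q := by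
  let a : (J.comap q).subscheme ⟶ J.subscheme := (J.comapIso q).hom ≫ pullback.snd q J.subschemeι
  have h1 : IsPullback a (J.comap q).subschemeι J.subschemeι q :=
    (IsPullback.of_iso_pullback ⟨by
      rw [← J.comapIso_hom_fst q, Category.assoc, pullback.condition, Category.assoc]⟩
      (J.comapIso q) (J.comapIso_hom_fst q) rfl).flip
  have hU : (J.comap q).subschemeι ⁻¹ᵁ (J'.comap q).support.compl =
      a ⁻¹ᵁ (J.subschemeι ⁻¹ᵁ J'.support.compl) := by
    rw [← Scheme.Hom.comp_preimage, h1.w, Scheme.Hom.comp_preimage,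
      Scheme.IdealSheafData.support_comap]
    rfl
  let e := Scheme.isoOfEq _ hU
  have h2 := (isPullback_morphismRestrict a (J.subschemeι ⁻¹ᵁ J'.support.compl)).paste_vert h1
  refine ⟨e.hom ≫ (a ∣_ (J.subschemeι ⁻¹ᵁ J'.support.compl)), ?_⟩
  refine h2.of_iso e.symm (Iso.refl _) (Iso.refl _) (Iso.refl _) ?_ ?_ (by simp) (by simp)
  · simp
  · simp [pieceι, e]

theorem HasStrat.baseChange {g : X ⟶ V} {X' V' : Scheme.{u}} {q : X' ⟶ X} {g' : X' ⟶ V'}
    {b : V' ⟶ V} (h : IsPullback q g' g b) (hg : HasStrat g) : HasStrat g' := by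
  obtain ⟨t, J, hmono, hlast, hsupp, hfg, hsm⟩ := hg
  refine ⟨t, fun i => (J i).comap q, fun i j hij => Scheme.IdealSheafData.comap_mono q (hmono hij),
    ?_, ?_, fun i O => ModPairLib.fg_comap (J i) q (hfg i) O, fun i => ?_⟩
  · show (J (Fin.last t)).comap q = ⊤
    rw [hlast, Scheme.IdealSheafData.comap_top]
  · show ((((J 0).comap q).support) : Set X') = Set.univ
    rw [Scheme.IdealSheafData.support_comap, TopologicalSpace.Closeds.coe_preimage, hsupp,
      Set.preimage_univ]
  · obtain ⟨m, hm⟩ := isPullback_piece q (J i.castSucc) (J i.succ)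
    exact MorphismProperty.of_isPullback (hm.paste_vert h) (hsm i)

end Groth.Agent.SmoothStrat
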