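import Groth.Agent.SmoothStratLib.Field
import Groth.Agent.SmoothStratLib.HasStrat
import Groth.Agent.SmoothStratLib.Alg
import Groth.Agent.IntImage.Spread
import Groth.Agent.S2155
import Groth.Agent.S0414
import Groth.Prelude.Def_Mor2

/-!
# Smoothness stratifications over an integral noetherian affine base
-/

set_option autoImplicit false
set_option linter.style.haveILetI false

universe u

open CategoryTheory CategoryTheory.Limits AlgebraicGeometry TopologicalSpace
open Groth.Agent.GenFlatStrat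

noncomputable section

namespace Groth.Agent.SmoothStrat

theorem isReduced_of_flat_preimmersion {T Y : Scheme.{u}} (i : T ⟶ Y) [Flat i] [IsPreimmersion i]
    [IsReduced Y] : IsReduced T := by
  haveI : ∀ t : T, _root_.IsReduced (T.presheaf.stalk t) := fun t => by
    let φ := (i.stalkMap t).hom
    have hflat : φ.Flat := Flat.stalkMap i t
    have hinj : Function.Injective φ := by
      algebraize [(i.stalkMap t).hom]
      haveI : IsLocalHom (algebraMap (Y.presheaf.stalk (i t)) (T.presheaf.stalk t)) :=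
        inferInstanceAs (IsLocalHom (i.stalkMap t).hom)
      haveI : Module.Flat (Y.presheaf.stalk (i t)) (T.presheaf.stalk t) := hflat
      haveI : Module.FaithfullyFlat (Y.presheaf.stalk (i t)) (T.presheaf.stalk t) :=
        Module.FaithfullyFlat.of_flat_of_isLocalHom
      exact FaithfulSMul.algebraMap_injective _ _
    have hbij : Function.Bijective φ := ⟨hinj, i.stalkMap_surjective t⟩
    exact isReduced_of_injective (RingEquiv.ofBijective φ hbij).symm.toRingHom
      (RingEquiv.ofBijective φ hbij).symm.injective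
  exact isReduced_of_isReduced_stalk T

theorem smoothLocus_generic {X' V XL VL : Scheme.{u}} {g : X' ⟶ V} {gX : XL ⟶ X'} {gL : XL ⟶ VL}
    {w : VL ⟶ V} (hP : IsPullback gX gL g w) [Flat w] [IsPreimmersion w] (Z Z' : Closeds X')
    [LocallyOfFinitePresentation (stratumι Z Z' ≫ g)]
    (hs : Smooth (stratumι (pre gX Z) (pre gX Z') ≫ gL)) (z : stratum Z Z')
    (hz : (stratumι Z Z' ≫ g) z ∈ Set.range w) : z ∈ (stratumι Z Z' ≫ g).smoothLocus := by
  haveI : Flat gX := MorphismProperty.of_isPullback hP.flip ‹_›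
  haveI : IsPreimmersion gX := MorphismProperty.of_isPullback hP.flip ‹_›
  let a := pullback.fst (stratumι Z Z') gX
  let m := pullback.snd (stratumι Z Z') gX
  haveI : Flat a := MorphismProperty.pullback_fst _ _ ‹_›
  haveI : IsPreimmersion a := MorphismProperty.pullback_fst _ _ ‹_›
  haveI := isReduced_stratum Z Z'
  haveI := isReduced_of_flat_preimmersion a
  haveI : IsPreimmersion m := MorphismProperty.pullback_snd _ _ inferInstance
  have hT : IsPullback a (m ≫ gL) (stratumι Z Z' ≫ g) w :=
    (IsPullback.of_hasPullback (stratumι Z Z') gX).paste_vert hP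
  obtain ⟨e, he⟩ := exists_iso_stratum (Z := pre gX Z) (Z' := pre gX Z') m (by
    rw [Scheme.Pullback.range_snd, range_stratumι]
    rfl)
  haveI : Smooth (m ≫ gL) := by
    have h := hs
    rw [← he, Category.assoc] at h
    rw [← e.inv_hom_id_assoc (m ≫ gL)]
    exact MorphismProperty.comp_mem _ _ _ inferInstance h
  have key := Groth.Agent.S2155.result (stratumι Z Z' ≫ g) w (m ≫ gL) a hT (Or.inr ‹_›)
  rw [Scheme.Hom.smoothLocus_eq_top] at key
  obtain ⟨y, hy⟩ := hz
  obtain ⟨x, hx, -⟩ := Scheme.Pullback.exists_preimage_pullback (f := stratumι Z Z' ≫ g) (g := w) z y hy.symm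
  have hmem : hT.isoPullback.inv x ∈ a ⁻¹ᵁ (stratumι Z Z' ≫ g).smoothLocus := key ▸ trivial
  have hax : a (hT.isoPullback.inv x) = z := by
    rw [← Scheme.Hom.comp_apply, hT.isoPullback_inv_fst, hx]
  exact hax ▸ hmem

theorem smooth_piece {X'' X' V'' V : Scheme.{u}} {g : X' ⟶ V} {h : X'' ⟶ X'} {g'' : X'' ⟶ V''}
    {c : V'' ⟶ V} (hP : IsPullback h g'' g c) [Flat c] (J J' : X'.IdealSheafData)
    [LocallyOfFinitePresentation (pieceι J J' ≫ g)]
    (hs : ∀ z, (pieceι J J' ≫ g) z ∈ Set.range c → z ∈ (pieceι J J' ≫ g).smoothLocus) :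
    Smooth (pieceι (J.comap h) (J'.comap h) ≫ g'') := by
  obtain ⟨m, hm⟩ := isPullback_piece h J J'
  have hT := hm.paste_vert hP
  haveI : LocallyOfFinitePresentation (pieceι (J.comap h) (J'.comap h) ≫ g'') :=
    MorphismProperty.of_isPullback hT ‹_›
  rw [← Scheme.Hom.smoothLocus_eq_top_iff,
    Groth.Agent.S2155.result _ c _ m hT (Or.inr ‹_›), eq_top_iff]
  intro y _
  refine hs (m y) ⟨(pieceι (J.comap h) (J'.comap h) ≫ g'') y, ?_⟩
  rw [← Scheme.Hom.comp_apply, ← hT.w]
  rfl

theorem exists_chain_pos {k : Type u} [Field k] {X : Scheme.{u}} (f : X ⟶ Spec (CommRingCat.of k))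
    [LocallyOfFiniteType f] [QuasiCompact f] :
    ∃ L : IntermediateField k (AlgebraicClosure k), Good L ∧
      ∃ (t : ℕ) (c : Fin (t + 1) → Closeds X), 0 < t ∧ c 0 = ⊤ ∧ c (Fin.last t) = ⊥ ∧
        (∀ i : Fin t, c i.succ ≤ c i.castSucc) ∧
        ∀ i : Fin t, SmoothOn f (fieldMap L) (c i.castSucc) (c i.succ) := by
  obtain ⟨L, hL, t, c, hc0, hct, hm, hs⟩ := exists_chain f ⊤
  have hsame : ∀ Z, SmoothOn f (fieldMap L) Z Z := fun Z => by
    haveI : IsEmpty (stratum (pre (pullback.fst f (fieldMap L)) Z) (pre (pullback.fst f (fieldMap L)) Z)) :=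
      ⟨fun x => by
        have h := (range_stratumι (pre (pullback.fst f (fieldMap L)) Z)
          (pre (pullback.fst f (fieldMap L)) Z)).le ⟨x, rfl⟩
        exact h.2 h.1⟩
    show Smooth _
    exact inferInstance
  refine ⟨L, hL, t + 1, Fin.cons ⊤ c, Nat.succ_pos t, rfl, ?_, fun i => ?_, fun i => ?_⟩
  · rw [← Fin.succ_last, Fin.cons_succ, hct]
  · refine Fin.cases ?_ (fun i => ?_) i
    · simp
    · simpa [Fin.castSucc_succ, Fin.cons_succ] using hm i
  · refine Fin.cases ?_ (fun i => ?_) i
    · show SmoothOn f _ (Fin.cons (α := fun _ => Closeds X) ⊤ c (0 : Fin (t + 1)).castSucc) _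
      rw [Fin.castSucc_zero, Fin.cons_zero, Fin.cons_succ, hc0]
      exact hsame ⊤
    · rw [Fin.castSucc_succ, Fin.cons_succ, Fin.cons_succ]
      exact hs i

theorem smooth_stratum_comap {X'' X' V'' V : Scheme.{u}} {g : X' ⟶ V} {h : X'' ⟶ X'} {g'' : X'' ⟶ V''}
    {c : V'' ⟶ V} (hP : IsPullback h g'' g c) [Flat c] (J J' : X'.IdealSheafData) (Z Z' : Closeds X')
    (hJ : J = Scheme.IdealSheafData.vanishingIdeal Z) (hZ : J'.support = Z')
    [LocallyOfFinitePresentation (stratumι Z Z' ≫ g)]
    (hs : ∀ z, (stratumι Z Z' ≫ g) z ∈ Set.range c → z ∈ (stratumι Z Z' ≫ g).smoothLocus) :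
    Smooth (pieceι (J.comap h) (J'.comap h) ≫ g'') := by
  subst hJ hZ
  exact smooth_piece hP _ _ hs

theorem morphismRestrict_of_le {P : MorphismProperty Scheme.{u}} [P.IsStableUnderBaseChange]
    {X Y : Scheme.{u}} (f : X ⟶ Y) {U U' : Y.Opens} (hle : U' ≤ U) (h : P (f ∣_ U)) :
    P (f ∣_ U') := by
  have hsq : IsPullback (X.homOfLE (f.preimage_mono hle)) (f ∣_ U') (f ∣_ U) (Y.homOfLE hle) := by
    refine IsPullback.of_right ?_ ?_ (isPullback_morphismRestrict f U).flip
    · simpa using (isPullback_morphismRestrict f U').flip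
    · rw [← cancel_mono U.ι]
      simp [morphismRestrict_ι]
  exact MorphismProperty.of_isPullback hsq h

/-- Over an integral noetherian affine base there is a smoothness stratification near the generic
point after a finite locally free radicial base change. -/
theorem exists_hasStrat {B : Type u} [CommRing B] [IsDomain B] [IsNoetherianRing B] {X₀ : Scheme.{u}}
    (f₀ : X₀ ⟶ Spec (CommRingCat.of B)) [LocallyOfFiniteType f₀] [QuasiCompact f₀] :
    ∃ (U₁ : (Spec (CommRingCat.of B)).Opens) (V₁ : Scheme.{u}) (v₁ : V₁ ⟶ U₁),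
      (⟨⊥, Ideal.isPrime_bot⟩ : PrimeSpectrum B) ∈ U₁ ∧ Surjective v₁ ∧ UniversallyInjective v₁ ∧
        Mor2.IsFinLocFree v₁ ∧ HasStrat (pullback.snd f₀ (v₁ ≫ U₁.ι)) := by
  classical
  let K := FractionRing B
  let bK : Spec (CommRingCat.of K) ⟶ Spec (CommRingCat.of B) :=
    Spec.map (CommRingCat.ofHom (algebraMap B K))
  let fK := pullback.snd f₀ bK
  haveI : LocallyOfFiniteType fK := MorphismProperty.pullback_snd _ _ ‹_›
  haveI : QuasiCompact fK := MorphismProperty.pullback_snd _ _ ‹_›
  obtain ⟨L, ⟨hLf, hLp⟩, t, c, htpos, hc0, hct, hcm, hcs⟩ := exists_chain_pos fK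
  obtain ⟨B', hB'fin, hB'frac, hB'epi⟩ := exists_model B K L
  let bw : Spec (CommRingCat.of B') ⟶ Spec (CommRingCat.of B) :=
    Spec.map (CommRingCat.ofHom (algebraMap B B'))
  let wL : Spec (CommRingCat.of L) ⟶ Spec (CommRingCat.of B') :=
    Spec.map (CommRingCat.ofHom (algebraMap B' L))
  have hw : wL ≫ bw = fieldMap L ≫ bK := by
    rw [← Spec.map_comp, ← Spec.map_comp, ← CommRingCat.ofHom_comp, ← CommRingCat.ofHom_comp,
      ← IsScalarTower.algebraMap_eq, ← IsScalarTower.algebraMap_eq]
  haveI : IsPreimmersion wL := IsPreimmersion.of_isLocalization (nonZeroDivisors B')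
  haveI : Flat wL := by
    rw [HasRingHomProperty.Spec_iff (P := @Flat), CommRingCat.hom_ofHom]
    exact RingHom.flat_algebraMap_iff.2 (IsLocalization.flat L (nonZeroDivisors B'))
  haveI : IsFinite bw := (IsFinite.SpecMap_iff _).2 (RingHom.finite_algebraMap.2 hB'fin)
  haveI hUI : UniversallyInjective bw := Unibranch.universallyInjective_specMap_iff.2 hB'epi
  haveI : Surjective bw := ⟨fun p => by
    obtain ⟨q, hq⟩ := (RadicialLib.isHomeomorph_comap hB'epi fun r hr => by
      have : algebraMap B L r = 0 := by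
        rw [IsScalarTower.algebraMap_apply B B' L, hr, map_zero]
      rw [IsScalarTower.algebraMap_apply B K L, map_eq_zero] at this
      rw [(map_eq_zero_iff _ (IsFractionRing.injective B K)).1 this]
      exact IsNilpotent.zero).surjective p
    exact ⟨q, hq⟩⟩
  let X' := pullback f₀ bw
  let g' : X' ⟶ _ := pullback.snd f₀ bw
  haveI : IsNoetherianRing B' := IsNoetherianRing.of_finite B B'
  haveI : IsLocallyNoetherian X' := LocallyOfFiniteType.isLocallyNoetherian g'
  haveI : CompactSpace X' := QuasiCompact.compactSpace_of_compactSpace g'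
  haveI : IsNoetherian X' := {}
  let gX : pullback fK (fieldMap L) ⟶ X' :=
    pullback.lift (pullback.fst fK (fieldMap L) ≫ pullback.fst f₀ bK) (pullback.snd fK (fieldMap L) ≫ wL)
      (by rw [Category.assoc, pullback.condition, ← Category.assoc, pullback.condition, Category.assoc,
        Category.assoc, hw])
  have hgX : IsPullback gX (pullback.snd fK (fieldMap L)) g' wL := by
    refine IsPullback.of_right ?_ (pullback.lift_snd _ _ _) (IsPullback.of_hasPullback f₀ bw)
    rw [pullback.lift_fst, hw]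
    exact (IsPullback.of_hasPullback fK (fieldMap L)).paste_horiz (IsPullback.of_hasPullback f₀ bK)
  haveI : IsPreimmersion gX := MorphismProperty.of_isPullback hgX.flip ‹_›
  let C : Fin (t + 1) → Closeds X' := fun i =>
    if i = 0 then ⊤ else ⟨closure (gX '' (pre (pullback.fst fK (fieldMap L)) (c i) : Set _)), isClosed_closure⟩
  have hpre : ∀ i, pre gX (C i) = pre (pullback.fst fK (fieldMap L)) (c i) := by
    intro i
    by_cases hi : i = 0
    · subst hi
      simp only [C, if_pos, hc0]
      rfl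
    · refine Closeds.ext ?_
      simp only [C, if_neg hi]
      show gX ⁻¹' closure (gX '' _) = _
      rw [← gX.isEmbedding.closure_eq_preimage_closure_image, IsClosed.closure_eq]
      exact Closeds.isClosed _
  have hcanti : Antitone c := Fin.antitone_iff_succ_le.2 hcm
  have hC : ∀ i : Fin t, C i.succ ≤ C i.castSucc := by
    intro i
    by_cases hi : i.castSucc = 0
    · simp only [C, hi, if_pos]
      exact le_top
    · simp only [C, if_neg hi, if_neg (Fin.succ_ne_zero i)]
      exact closure_mono (Set.image_mono fun x hx => hcm i hx)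
  have hmem : ∀ i : Fin t, ∃ g : Γ(Spec (CommRingCat.of B), ⊤),
      (⟨⊥, Ideal.isPrime_bot⟩ : PrimeSpectrum B) ∈ (Spec (CommRingCat.of B)).basicOpen g ∧
        ∀ _ : LocallyOfFinitePresentation (stratumι (C i.castSucc) (C i.succ) ≫ g'),
          ∀ z, bw ((stratumι (C i.castSucc) (C i.succ) ≫ g') z) ∈ (Spec (CommRingCat.of B)).basicOpen g →
            z ∈ (stratumι (C i.castSucc) (C i.succ) ≫ g').smoothLocus := by
    intro i
    let s := stratumι (C i.castSucc) (C i.succ) ≫ g'
    haveI : LocallyOfFinitePresentation s :=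
      inferInstance
    haveI : NoetherianSpace (stratum (C i.castSucc) (C i.succ)) :=
      (stratumι (C i.castSucc) (C i.succ)).isEmbedding.isInducing.noetherianSpace
    obtain ⟨g, hg, hgU⟩ := Groth.Agent.IntImage.exists_basicOpen_le (s ≫ bw)
      (⟨⊥, Ideal.isPrime_bot⟩ : PrimeSpectrum B) ⊤ s.smoothLocus
      (NoetherianSpace.isCompact _) (fun z _ hz => by
        have hs := hcs i
        unfold SmoothOn at hs
        rw [← hpre, ← hpre] at hs
        refine smoothLocus_generic hgX _ _ hs z ⟨⟨⊥, Ideal.isPrime_bot⟩, ?_⟩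
        apply (RadicialLib.comap_injective hB'epi)
        show (wL ≫ bw) _ = bw (s z)
        rw [hw]
        refine PrimeSpectrum.ext ?_
        have h1 : (bw (s z) : PrimeSpectrum B).asIdeal = ⊥ :=
          le_bot_iff.1 ((PrimeSpectrum.le_iff_specializes _ _).2 hz)
        rw [h1]
        show Ideal.comap (algebraMap B K) (Ideal.comap (algebraMap K L) ⊥) = ⊥
        rw [← RingHom.ker_eq_comap_bot, (RingHom.injective_iff_ker_eq_bot _).1
          (algebraMap K L).injective]
        exact (RingHom.injective_iff_ker_eq_bot _).1 (IsFractionRing.injective B K))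
    exact ⟨g, hg, fun _ z hz => hgU ⟨trivial, hz⟩⟩
  choose g hg hgs using hmem
  obtain ⟨Uf, hUfd, hUfflat, hUffp⟩ := Groth.Agent.S0414.result bw
  have hUf : (⟨⊥, Ideal.isPrime_bot⟩ : PrimeSpectrum B) ∈ Uf := by
    obtain ⟨p, hp⟩ := hUfd.nonempty
    exact ((PrimeSpectrum.le_iff_specializes
      (⟨⊥, Ideal.isPrime_bot⟩ : PrimeSpectrum B) p).1 bot_le).mem_open Uf.isOpen hp
  let U₁ : (Spec (CommRingCat.of B)).Opens :=
    Uf ⊓ Finset.univ.inf fun i => (Spec (CommRingCat.of B)).basicOpen (g i)
  have hU₁ : (⟨⊥, Ideal.isPrime_bot⟩ : PrimeSpectrum B) ∈ U₁ := by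
    refine ⟨hUf, ?_⟩
    refine Finset.inf_induction (p := fun O : (Spec (CommRingCat.of B)).Opens =>
      (⟨⊥, Ideal.isPrime_bot⟩ : PrimeSpectrum B) ∈ O) trivial (fun _ h _ h' => ⟨h, h'⟩) fun i _ => hg i
  refine ⟨U₁, _, bw ∣_ U₁, hU₁, IsZariskiLocalAtTarget.restrict (inferInstanceAs (Surjective bw)) U₁,
    IsZariskiLocalAtTarget.restrict hUI U₁,
    ⟨IsZariskiLocalAtTarget.restrict (inferInstanceAs (IsFinite bw)) U₁, morphismRestrict_of_le bw inf_le_left hUfflat,
      morphismRestrict_of_le bw inf_le_left hUffp⟩, ?_⟩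
  let V₁ := bw ⁻¹ᵁ U₁
  let h : pullback f₀ (bw ∣_ U₁ ≫ U₁.ι) ⟶ X' :=
    pullback.lift (pullback.fst _ _) (pullback.snd _ _ ≫ V₁.ι)
      (by rw [pullback.condition, morphismRestrict_ι, Category.assoc])
  have hh : IsPullback h (pullback.snd f₀ (bw ∣_ U₁ ≫ U₁.ι)) g' V₁.ι := by
    refine IsPullback.of_right ?_ (pullback.lift_snd _ _ _) (IsPullback.of_hasPullback f₀ bw)
    rw [pullback.lift_fst, ← morphismRestrict_ι]
    exact IsPullback.of_hasPullback _ _
  refine ⟨t, fun i => (Scheme.IdealSheafData.vanishingIdeal (C i)).comap h, ?_, ?_, ?_, ?_, ?_⟩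
  · exact Fin.monotone_iff_le_succ.2 fun i => Scheme.IdealSheafData.comap_mono h
      (Scheme.IdealSheafData.vanishingIdeal_antimono (hC i))
  · show (Scheme.IdealSheafData.vanishingIdeal (C (Fin.last t))).comap h = ⊤
    have ht : Fin.last t ≠ 0 := fun e => htpos.ne' (congrArg Fin.val e)
    have hb : C (Fin.last t) = ⊥ := by
      simp only [C, if_neg ht, hct]
      refine Closeds.ext ?_
      simp [pre]
    rw [hb, Scheme.IdealSheafData.vanishingIdeal_bot, Scheme.IdealSheafData.comap_top]
  · show ((((Scheme.IdealSheafData.vanishingIdeal (C 0)).comap h).support :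
      Closeds (pullback f₀ (bw ∣_ U₁ ≫ U₁.ι) : Scheme.{u})) :
      Set (pullback f₀ (bw ∣_ U₁ ≫ U₁.ι) : Scheme.{u})) = Set.univ
    rw [Scheme.IdealSheafData.support_comap, Closeds.coe_preimage,
      Scheme.IdealSheafData.coe_support_vanishingIdeal]
    simp [C]
  · exact fun i O => ModPairLib.fg_comap _ h (fun V => (IsLocallyNoetherian.component_noetherian V).noetherian _) O
  · intro i
    refine smooth_stratum_comap hh _ _ (C i.castSucc) (C i.succ) rfl
      (Closeds.ext (Scheme.IdealSheafData.coe_support_vanishingIdeal _)) fun z hz => ?_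
    refine hgs i inferInstance z ?_
    obtain ⟨y, hy⟩ := hz
    rw [← hy]
    have hle : (Finset.univ.inf fun i => (Spec (CommRingCat.of B)).basicOpen (g i)) ≤
        (Spec (CommRingCat.of B)).basicOpen (g i) := Finset.inf_le (Finset.mem_univ i)
    exact SetLike.le_def.1 hle y.2.2

end Groth.Agent.SmoothStrat
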