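import Groth.Agent.SmoothStratLib.Noeth
import Groth.Agent.GenFlatStratLib.Model
import Mathlib.RingTheory.Ideal.MinimalPrime.Localization

/-!
# Smoothness stratification near a generic point
-/

set_option autoImplicit false
set_option linter.style.haveILetI false
set_option backward.isDefEq.respectTransparency false

universe u

open CategoryTheory CategoryTheory.Limits AlgebraicGeometry TopologicalSpace

noncomputable section

namespace Groth.Agent.SmoothStrat

theorem exists_noetherian_model {X S : Scheme.{u}} (f : X ⟶ S) [LocallyOfFinitePresentation f]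
    [QuasiCompact f] [QuasiSeparated f] [CompactSpace S] [QuasiSeparatedSpace S] :
    ∃ (S₀ X₀ : Scheme.{u}) (_ : IsNoetherian S₀) (f₀ : X₀ ⟶ S₀) (g : X ⟶ X₀) (π : S ⟶ S₀),
      LocallyOfFinitePresentation f₀ ∧ QuasiCompact f₀ ∧ IsPullback g f f₀ π := by
  obtain ⟨I, hpre, hdir, hne, DX, DS, φ, cX, cS, hcX, hcS, eX, eS, haff, hft, -⟩ :=
    Groth.Agent.S7384.result (𝟙 S)
  haveI : ∀ (a b : Iᵒᵖ) (q : a ⟶ b), IsAffineHom (DS.map q) := fun a b q => (haff a b q).2
  haveI hN : ∀ a, IsNoetherian (DS.obj a) := fun a =>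
    @GenFlatStrat.isNoetherian_of_finiteType_int (DS.obj a) (hft a).2.1 (hft a).2.2.2
  obtain ⟨i, Xi, fi, gi, hfi, hfiqc, hfiqs, hpb⟩ :=
    Groth.Agent.S0591.result DS cS hcS X (f ≫ eS.inv)
  exact ⟨DS.obj i, Xi, hN i, fi, gi, eS.inv ≫ cS.π.app i, hfi, hfiqc,
    hpb.of_iso (Iso.refl _) (Iso.refl _) eS (Iso.refl _) (by simp) (by simp) (by simp) (by simp)⟩

theorem exists_mul_eq_zero {A : Type u} [CommRing A] [_root_.IsReduced A] {p : Ideal A}
    (hp : p ∈ minimalPrimes A) {a : A} (ha : a ∈ p) : ∃ s, s ∉ p ∧ s * a = 0 := by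
  haveI : p.IsPrime := hp.1.1
  have hmem : algebraMap A (Localization.AtPrime p) a ∈ IsLocalRing.maximalIdeal (Localization.AtPrime p) :=
    (IsLocalization.AtPrime.to_map_mem_maximal_iff _ p a).2 ha
  have hbot : IsLocalRing.maximalIdeal (Localization.AtPrime p) = ⊥ := by
    have h := IsLocalization.AtPrime.radical_map_of_mem_minimalPrimes (Localization.AtPrime p) p ⊥ hp
    rw [Ideal.map_bot] at h
    rw [← IsLocalization.AtPrime.map_eq_maximalIdeal p (Localization.AtPrime p), ← h]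
    haveI : _root_.IsReduced (Localization.AtPrime p) := inferInstance
    exact Ideal.radical_bot_of_isReduced
  rw [hbot, Ideal.mem_bot, IsLocalization.map_eq_zero_iff p.primeCompl] at hmem
  obtain ⟨⟨s, hs⟩, h⟩ := hmem
  exact ⟨s, hs, h⟩

theorem exists_reduced_factor {A R : Type u} [CommRing A] [_root_.IsReduced A] [CommRing R]
    [IsNoetherianRing R] (φ : R →+* A) {p : Ideal A} (hp : p ∈ minimalPrimes A) :
    ∃ s, s ∉ p ∧ ∃ ψ : (R ⧸ p.comap φ) →+* Localization.Away s,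
      ψ.comp (Ideal.Quotient.mk _) = (algebraMap A (Localization.Away s)).comp φ ∧
      (p.map (algebraMap A (Localization.Away s))).comap ψ = ⊥ := by
  classical
  haveI : p.IsPrime := hp.1.1
  obtain ⟨G, hG⟩ := IsNoetherian.noetherian (p.comap φ)
  have hs : ∀ g : G, ∃ s, s ∉ p ∧ s * φ g = 0 := fun g => exists_mul_eq_zero hp (by
    have : (g : R) ∈ p.comap φ := hG ▸ Ideal.subset_span g.2
    exact this)
  choose s hsp hs0 using hs
  let t := ∏ g : G, s g
  have htp : t ∉ p := fun h => by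
    obtain ⟨g, -, hg⟩ := Ideal.IsPrime.prod_mem_iff.1 h
    exact hsp g hg
  have hker : p.comap φ ≤ RingHom.ker ((algebraMap A (Localization.Away t)).comp φ) := by
    rw [← hG]
    refine Ideal.span_le.2 fun g hg => ?_
    show algebraMap A (Localization.Away t) (φ g) = 0
    refine (IsLocalization.map_eq_zero_iff (Submonoid.powers t) _ _).2 ⟨⟨t, 1, pow_one t⟩, ?_⟩
    obtain ⟨c, hc⟩ : s ⟨g, hg⟩ ∣ t := Finset.dvd_prod_of_mem s (Finset.mem_univ _)
    show t * φ g = 0
    rw [hc, mul_right_comm, hs0, zero_mul]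
  refine ⟨t, htp, Ideal.Quotient.lift _ _ fun r hr => hker hr, ?_, ?_⟩
  · exact Ideal.Quotient.lift_comp_mk _ _ _
  · refine le_bot_iff.1 fun x hx => ?_
    obtain ⟨r, rfl⟩ := Ideal.Quotient.mk_surjective x
    have h1 : algebraMap A (Localization.Away t) (φ r) ∈ p.map (algebraMap A (Localization.Away t)) := by
      simpa using hx
    have h2 : (p.map (algebraMap A (Localization.Away t))).comap (algebraMap A _) = p :=
      IsLocalization.comap_map_of_isPrime_disjoint (Submonoid.powers t) _ ‹_›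
        (Set.disjoint_left.2 fun a ⟨n, hn⟩ ha => htp (‹p.IsPrime›.mem_of_pow_mem n ((show t ^ n = a from hn) ▸ ha)))
    rw [Ideal.mem_bot, Ideal.Quotient.eq_zero_iff_mem, Ideal.mem_comap, ← h2]
    exact h1

theorem exists_near {X S : Scheme.{u}} (f : X ⟶ S) [LocallyOfFinitePresentation f] [QuasiCompact f]
    [QuasiSeparated f] [IsReduced S] (η : S) (hmax : ∀ y, y ⤳ η → y = η) :
    ∃ (U : S.Opens) (V : Scheme.{u}) (v : V ⟶ (U : Scheme.{u})), η ∈ U ∧ Surjective v ∧
      UniversallyInjective v ∧ Mor2.IsFinLocFree v ∧ HasStrat (pullback.snd f (v ≫ U.ι)) := by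
  classical
  obtain ⟨O, hO, hηO, -⟩ := exists_isAffineOpen_mem_and_subset (x := η) (U := ⊤) trivial
  haveI : IsAffine O := hO
  let fO := pullback.snd f O.ι
  haveI : LocallyOfFinitePresentation fO := MorphismProperty.pullback_snd _ _ ‹_›
  haveI : QuasiCompact fO := MorphismProperty.pullback_snd _ _ ‹_›
  haveI : QuasiSeparated fO := MorphismProperty.pullback_snd _ _ ‹_›
  obtain ⟨S₀, X₀, hS₀, f₀, g, π, hf₀, hf₀qc, hpb⟩ := exists_noetherian_model fO
  let η' : O := ⟨η, hηO⟩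
  obtain ⟨W, hW, hηW, -⟩ := exists_isAffineOpen_mem_and_subset (x := π η') (U := ⊤) trivial
  obtain ⟨O', hO', hηO', hO'W⟩ := exists_isAffineOpen_mem_and_subset (x := η') (U := π ⁻¹ᵁ W) hηW
  haveI : IsNoetherianRing Γ(S₀, W) := IsLocallyNoetherian.component_noetherian ⟨W, hW⟩
  haveI : _root_.IsReduced Γ(O, O') := inferInstance
  let φ : Γ(S₀, W) →+* Γ(O, O') := (π.appLE W O' hO'W).hom
  let p : PrimeSpectrum Γ(O, O') := hO'.primeIdealOf ⟨η', hηO'⟩
  have hpη : hO'.fromSpec p = η' := hO'.fromSpec_primeIdealOf _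
  have hmin : p.asIdeal ∈ minimalPrimes Γ(O, O') := by
    refine ⟨⟨p.2, bot_le⟩, fun q hq hqp => ?_⟩
    have h1 : (⟨q, hq.1⟩ : PrimeSpectrum Γ(O, O')) ⤳ p :=
      (PrimeSpectrum.le_iff_specializes _ p).1 hqp
    have h2 := (h1.map hO'.fromSpec.continuous).map O.ι.continuous
    rw [hpη] at h2
    have h3 := hmax _ h2
    have h4 : hO'.fromSpec ⟨q, hq.1⟩ = hO'.fromSpec p := by
      rw [hpη]
      exact O.ι.isOpenEmbedding.injective h3
    exact (congrArg PrimeSpectrum.asIdeal (hO'.fromSpec.isOpenEmbedding.injective h4)).ge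
  obtain ⟨s, hs, ψ, hψ, hψp⟩ := exists_reduced_factor φ hmin
  let B := Γ(S₀, W) ⧸ p.asIdeal.comap φ
  let iB : Spec (CommRingCat.of B) ⟶ S₀ :=
    Spec.map (CommRingCat.ofHom (Ideal.Quotient.mk (p.asIdeal.comap φ))) ≫ hW.fromSpec
  let jA : Spec (CommRingCat.of (Localization.Away s)) ⟶ S :=
    Spec.map (CommRingCat.ofHom (algebraMap Γ(O, O') (Localization.Away s))) ≫ hO'.fromSpec ≫ O.ι
  haveI : IsOpenImmersion jA := by
    haveI : IsOpenImmersion (Spec.map (CommRingCat.ofHom (algebraMap Γ(O, O') (Localization.Away s)))) :=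
      IsOpenImmersion.of_isLocalization s
    infer_instance
  let πB : Spec (CommRingCat.of (Localization.Away s)) ⟶ Spec (CommRingCat.of B) :=
    Spec.map (CommRingCat.ofHom ψ)
  have hsq : πB ≫ iB = Spec.map (CommRingCat.ofHom (algebraMap Γ(O, O') (Localization.Away s))) ≫
      hO'.fromSpec ≫ π := by
    rw [← hW.SpecMap_appLE_fromSpec π hO' hO'W]
    simp only [πB, iB, ← Category.assoc, ← Spec.map_comp]
    congr 2
    exact CommRingCat.hom_ext hψ
  haveI : (p.asIdeal.comap φ).IsPrime := inferInstance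
  let fB := pullback.snd f₀ iB
  haveI : LocallyOfFinitePresentation fB := MorphismProperty.pullback_snd _ _ hf₀
  haveI : QuasiCompact fB := MorphismProperty.pullback_snd _ _ hf₀qc
  obtain ⟨U₁, V₁, v₁, hgen, hsurj, hUI, hflf, hstrat⟩ := exists_hasStrat fB
  let q : PrimeSpectrum (Localization.Away s) := ⟨p.asIdeal.map (algebraMap _ _),
    IsLocalization.isPrime_of_isPrime_disjoint (Submonoid.powers s) _ _ p.2
      (Set.disjoint_left.2 fun a ⟨n, hn⟩ ha => hs (p.2.mem_of_pow_mem n ((show s ^ n = a from hn) ▸ ha)))⟩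
  have hqη : jA q = η := by
    show O.ι (hO'.fromSpec (Spec.map (CommRingCat.ofHom (algebraMap Γ(O, O') (Localization.Away s))) q)) = η
    rw [show Spec.map (CommRingCat.ofHom (algebraMap Γ(O, O') (Localization.Away s))) q = p from
      PrimeSpectrum.ext (IsLocalization.comap_map_of_isPrime_disjoint (Submonoid.powers s) _ p.2
        (Set.disjoint_left.2 fun a ⟨n, hn⟩ ha => hs (p.2.mem_of_pow_mem n ((show s ^ n = a from hn) ▸ ha)))), hpη]
    rfl
  let P := πB ⁻¹ᵁ U₁
  have hqP : q ∈ P := by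
    show πB q ∈ U₁
    rw [show πB q = (⟨⊥, Ideal.isPrime_bot⟩ : PrimeSpectrum B) from PrimeSpectrum.ext hψp]
    exact hgen
  let U : S.Opens := jA ''ᵁ P
  let e : (P : Scheme.{u}) ≅ U := jA.isoImage P
  let r : (U : Scheme.{u}) ⟶ U₁ := e.inv ≫ (πB ∣_ U₁)
  obtain ⟨hvfin, hvflat, hvfp⟩ := hflf
  let v := pullback.fst r v₁
  refine ⟨U, pullback r v₁, v, ⟨q, hqP, hqη⟩, MorphismProperty.pullback_fst _ _ hsurj,
    MorphismProperty.pullback_fst _ _ hUI, ⟨MorphismProperty.pullback_fst _ _ hvfin,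
      MorphismProperty.pullback_fst _ _ hvflat, MorphismProperty.pullback_fst _ _ hvfp⟩, ?_⟩
  -- the map of `U` to `O`
  let a : (U : Scheme.{u}) ⟶ O := e.inv ≫ P.ι ≫
    Spec.map (CommRingCat.ofHom (algebraMap Γ(O, O') (Localization.Away s))) ≫ hO'.fromSpec
  have ha : a ≫ O.ι = U.ι := by
    simp only [a, Category.assoc]
    show e.inv ≫ P.ι ≫ jA = U.ι
    rw [← jA.isoImage_inv_ι P]
  have hr : r ≫ U₁.ι ≫ iB = a ≫ π := by
    simp only [r, a, Category.assoc]
    rw [← Category.assoc (πB ∣_ U₁), morphismRestrict_ι, Category.assoc, hsq]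
  let b := pullback.snd r v₁
  have hb : b ≫ v₁ ≫ U₁.ι ≫ iB = (v ≫ a) ≫ π := by
    rw [Category.assoc, ← hr, ← Category.assoc b, ← pullback.condition, Category.assoc]
  have h1 : IsPullback (pullback.fst f (v ≫ U.ι)) (pullback.snd f (v ≫ U.ι)) f (v ≫ U.ι) :=
    IsPullback.of_hasPullback _ _
  have hbig : IsPullback (pullback.fst fO (v ≫ a) ≫ g) (pullback.snd fO (v ≫ a)) f₀ ((v ≫ a) ≫ π) :=
    (IsPullback.of_hasPullback fO (v ≫ a)).paste_horiz hpb
  let e₂ : pullback f (v ≫ U.ι) ≅ pullback fO (v ≫ a) :=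
    (pullback.congrHom rfl (by rw [Category.assoc, ha])) ≪≫
      (pullbackLeftPullbackSndIso f O.ι (v ≫ a)).symm
  have he₂ : e₂.hom ≫ pullback.snd fO (v ≫ a) = pullback.snd f (v ≫ U.ι) := by
    simp [e₂, fO]
  have hX : IsPullback (e₂.hom ≫ pullback.fst fO (v ≫ a) ≫ g) (pullback.snd f (v ≫ U.ι)) f₀
      ((v ≫ a) ≫ π) :=
    hbig.of_iso e₂.symm (Iso.refl _) (Iso.refl _) (Iso.refl _) (by simp) (by simp [← he₂]) (by simp)
      (by simp)
  have hT : IsPullback (pullback.fst fB (v₁ ≫ U₁.ι) ≫ pullback.fst f₀ iB)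
      (pullback.snd fB (v₁ ≫ U₁.ι)) f₀ ((v₁ ≫ U₁.ι) ≫ iB) :=
    (IsPullback.of_hasPullback fB (v₁ ≫ U₁.ι)).paste_horiz (IsPullback.of_hasPullback f₀ iB)
  let m : pullback f (v ≫ U.ι) ⟶ pullback fB (v₁ ≫ U₁.ι) :=
    hT.lift (e₂.hom ≫ pullback.fst fO (v ≫ a) ≫ g) (pullback.snd f (v ≫ U.ι) ≫ b) (by
      rw [hX.w, ← hb]
      simp only [Category.assoc])
  refine HasStrat.baseChange (q := m) (b := b) ?_ hstrat
  refine IsPullback.of_right ?_ (hT.lift_snd _ _ _) hT
  rw [hT.lift_fst]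
  have : b ≫ (v₁ ≫ U₁.ι) ≫ iB = (v ≫ a) ≫ π := by simpa using hb
  rw [this]
  exact hX

end Groth.Agent.SmoothStrat
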