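import Groth.Agent.SmoothStratLib.Strata
import Groth.Agent.S2769
import Mathlib.FieldTheory.IsAlgClosed.AlgebraicClosure
import Mathlib.FieldTheory.PurelyInseparable.Basic

/-!
# Smoothness stratifications over a field
-/

set_option autoImplicit false
set_option linter.style.haveILetI false

universe u

open CategoryTheory CategoryTheory.Limits AlgebraicGeometry TopologicalSpace
open Groth.Agent.GenFlatStrat

noncomputable section

namespace Groth.Agent.SmoothStrat

variable {k : Type u} [Field k] {X : Scheme.{u}} (f : X ⟶ Spec (CommRingCat.of k))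

/-- The stratum between `Z` and `Z'` is smooth after base change along `b`. -/
def SmoothOn {V : Scheme.{u}} (b : V ⟶ Spec (CommRingCat.of k)) (Z Z' : Closeds X) : Prop :=
  Smooth (stratumι (pre (pullback.fst f b) Z) (pre (pullback.fst f b) Z') ≫ pullback.snd f b)

theorem pre_pre {X₁ X₂ X₃ : Scheme.{u}} (q : X₁ ⟶ X₂) (p : X₂ ⟶ X₃) (r : X₁ ⟶ X₃) (h : q ≫ p = r)
    (Z : Closeds X₃) : pre q (pre p Z) = pre r Z := by
  subst h
  rfl

theorem SmoothOn.baseChange {V V' : Scheme.{u}} [IsReduced V'] {b : V ⟶ Spec (CommRingCat.of k)}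
    {b' : V' ⟶ Spec (CommRingCat.of k)} (c : V' ⟶ V) (hc : c ≫ b = b') {Z Z' : Closeds X}
    (h : SmoothOn f b Z Z') : SmoothOn f b' Z Z' := by
  let q : pullback f b' ⟶ pullback f b :=
    pullback.lift (pullback.fst f b') (pullback.snd f b' ≫ c)
      (by rw [pullback.condition, Category.assoc, hc])
  have hsq : IsPullback q (pullback.snd f b') (pullback.snd f b) c := by
    refine IsPullback.of_right ?_ (pullback.lift_snd _ _ _) (IsPullback.of_hasPullback f b)
    rw [pullback.lift_fst, hc]
    exact IsPullback.of_hasPullback f b'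
  haveI : Smooth (stratumι (pre (pullback.fst f b) Z) (pre (pullback.fst f b) Z') ≫ pullback.snd f b) := h
  have := smooth_stratum_baseChange hsq (pre (pullback.fst f b) Z) (pre (pullback.fst f b) Z')
  rwa [pre_pre q _ _ (pullback.lift_fst _ _ _), pre_pre q _ _ (pullback.lift_fst _ _ _)] at this

theorem smoothOn_of_cover {V U : Scheme.{u}} (b : V ⟶ Spec (CommRingCat.of k)) (a : U ⟶ X)
    [IsPreimmersion a] (c : U ⟶ Spec (CommRingCat.of k)) (hc : c = a ≫ f) {Z Z' : Closeds X}
    (ha : Set.range a = (Z : Set X) \ (Z' : Set X)) {T : Scheme.{u}} [IsReduced T]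
    (i : T ⟶ pullback c b) [IsClosedImmersion i] (hi : Function.Surjective i)
    (hs : Smooth (i ≫ pullback.snd c b)) : SmoothOn f b Z Z' := by
  subst hc
  let o := (pullbackRightPullbackFstIso f b a).inv
  haveI : IsPreimmersion (pullback.snd a (pullback.fst f b)) :=
    MorphismProperty.pullback_snd _ _ ‹_›
  let j : T ⟶ pullback f b := i ≫ o ≫ pullback.snd a (pullback.fst f b)
  haveI : IsPreimmersion j := by
    haveI : IsPreimmersion i := inferInstance
    haveI : IsPreimmersion o := inferInstance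
    exact inferInstanceAs (IsPreimmersion (i ≫ o ≫ pullback.snd a (pullback.fst f b)))
  have hjsnd : j ≫ pullback.snd f b = i ≫ pullback.snd (a ≫ f) b := by
    simp [j, o]
  have hrange : Set.range j = Set.range (pullback.snd a (pullback.fst f b)) := by
    have hio : Function.Surjective (i ≫ o) := by
      rw [Scheme.Hom.comp_base, TopCat.coe_comp]
      exact o.surjective.comp hi
    show Set.range (i ≫ o ≫ pullback.snd a (pullback.fst f b)) = _
    rw [← Category.assoc, Scheme.Hom.comp_base, TopCat.coe_comp, hio.range_comp]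
  obtain ⟨e, he⟩ := exists_iso_stratum (Z := pre (pullback.fst f b) Z)
    (Z' := pre (pullback.fst f b) Z') j (by
      rw [hrange, Scheme.Pullback.range_snd, ha]
      rfl)
  show Smooth _
  rw [← he, Category.assoc, hjsnd]
  exact MorphismProperty.comp_mem _ _ _ inferInstance hs

/-- An intermediate field which is finite and purely inseparable. -/
def Good (L : IntermediateField k (AlgebraicClosure k)) : Prop :=
  FiniteDimensional k L ∧ IsPurelyInseparable k L

/-- The structure map of an intermediate field. -/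
abbrev fieldMap (L : IntermediateField k (AlgebraicClosure k)) :
    Spec (CommRingCat.of L) ⟶ Spec (CommRingCat.of k) :=
  Spec.map (CommRingCat.ofHom (algebraMap k L))

theorem SmoothOn.mono {L L' : IntermediateField k (AlgebraicClosure k)} (hL : L ≤ L')
    {Z Z' : Closeds X} (h : SmoothOn f (fieldMap L) Z Z') : SmoothOn f (fieldMap L') Z Z' := by
  refine h.baseChange f (Spec.map (CommRingCat.ofHom (IntermediateField.inclusion hL).toRingHom)) ?_
  rw [← Spec.map_comp, ← CommRingCat.ofHom_comp, AlgHom.toRingHom_eq_coe, AlgHom.comp_algebraMap]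

theorem exists_smaller [LocallyOfFiniteType f] [QuasiCompact f] (Z : Closeds X) (hZ : Z ≠ ⊥) :
    ∃ Z' < Z, ∃ L : IntermediateField k (AlgebraicClosure k), Good L ∧
      SmoothOn f (fieldMap L) Z Z' := by
  let I := Scheme.IdealSheafData.vanishingIdeal Z
  obtain ⟨U, hU, k', hk, ha, hfin, hpi, T, hT, i, hi, hsurj, hsm⟩ :=
    Groth.Agent.S2769.result k (I.subschemeι ≫ f)
  have hr : Set.range I.subschemeι = Z := by
    rw [Scheme.IdealSheafData.range_subschemeι, Scheme.IdealSheafData.coe_support_vanishingIdeal]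
  let Z' : Closeds X := ⟨I.subschemeι '' ((U : Set I.subscheme)ᶜ),
    I.subschemeι.isClosedEmbedding.isClosedMap _ U.isOpen.isClosed_compl⟩
  have hle : Z' ≤ Z := by
    intro s hs
    obtain ⟨q, -, rfl⟩ := hs
    show I.subschemeι q ∈ (Z : Set X)
    rw [← hr]
    exact ⟨q, rfl⟩
  have hne : Z' ≠ Z := by
    intro h
    obtain ⟨z, hz⟩ : (Z : Set X).Nonempty :=
      Set.nonempty_iff_ne_empty.2 fun h => hZ (Closeds.ext h)
    obtain ⟨y, -⟩ : z ∈ Set.range I.subschemeι := hr ▸ hz
    haveI : Nonempty I.subscheme := ⟨y⟩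
    obtain ⟨v, hv⟩ := hU.nonempty
    have hm : I.subschemeι v ∈ (Z' : Set X) := by
      rw [h, ← hr]
      exact ⟨_, rfl⟩
    obtain ⟨q, hq, hqe⟩ := hm
    exact hq (I.subschemeι.isClosedEmbedding.injective hqe ▸ hv)
  have hrange : Set.range (U.ι ≫ I.subschemeι) = (Z : Set X) \ (Z' : Set X) := by
    rw [Scheme.Hom.comp_base, TopCat.coe_comp, Set.range_comp, Scheme.Opens.range_ι]
    show I.subschemeι '' (U : Set I.subscheme) = _
    rw [← hr]
    show _ = Set.range I.subschemeι \ I.subschemeι '' ((U : Set I.subscheme)ᶜ)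
    rw [← Set.image_univ, ← Set.image_sdiff I.subschemeι.isClosedEmbedding.injective,
      Set.sdiff_compl, Set.univ_inter]
  have hso := smoothOn_of_cover f _ (U.ι ≫ I.subschemeι) _ (Category.assoc _ _ _).symm hrange i
    hsurj hsm
  let φ : k' →ₐ[k] AlgebraicClosure k := IsAlgClosed.lift
  let e : k' ≃ₐ[k] φ.fieldRange := AlgEquiv.ofInjectiveField φ
  refine ⟨Z', lt_of_le_of_ne hle hne, φ.fieldRange,
    ⟨e.toLinearEquiv.finiteDimensional, e.isPurelyInseparable⟩, ?_⟩
  refine hso.baseChange f (Spec.map (CommRingCat.ofHom e.toAlgHom.toRingHom)) ?_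
  rw [← Spec.map_comp, ← CommRingCat.ofHom_comp, AlgHom.toRingHom_eq_coe, AlgHom.comp_algebraMap]

/-- A chain of closed subsets with smooth strata over a finite purely inseparable extension. -/
theorem exists_chain [LocallyOfFiniteType f] [QuasiCompact f] (Z : Closeds X) :
    ∃ L : IntermediateField k (AlgebraicClosure k), Good L ∧
      ∃ (t : ℕ) (c : Fin (t + 1) → Closeds X), c 0 = Z ∧ c (Fin.last t) = ⊥ ∧
        (∀ i : Fin t, c i.succ ≤ c i.castSucc) ∧
        ∀ i : Fin t, SmoothOn f (fieldMap L) (c i.castSucc) (c i.succ) := by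
  haveI : IsNoetherian X := {
    toIsLocallyNoetherian := LocallyOfFiniteType.isLocallyNoetherian f
    toCompactSpace := QuasiCompact.compactSpace_of_compactSpace f }
  induction Z using WellFoundedLT.induction with
  | ind Z ih =>
    by_cases hZ : Z = ⊥
    · refine ⟨⊥, ⟨inferInstance, inferInstance⟩, 0, fun _ => Z, rfl, hZ, fun i => i.elim0,
        fun i => i.elim0⟩
    · obtain ⟨Z', hlt, L₁, ⟨hf₁, hp₁⟩, hsm⟩ := exists_smaller f Z hZ
      obtain ⟨L₂, ⟨hf₂, hp₂⟩, t, c, hc0, hct, hmono, hsmooth⟩ := ih Z' hlt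
      refine ⟨L₁ ⊔ L₂, ⟨inferInstance, inferInstance⟩, t + 1, Fin.cons Z c, rfl, ?_,
        fun i => ?_, fun i => ?_⟩
      · rw [← Fin.succ_last, Fin.cons_succ, hct]
      · refine Fin.cases ?_ (fun i => ?_) i
        · simpa [Fin.cons_zero, Fin.cons_succ, hc0] using hlt.le
        · simpa [Fin.castSucc_succ, Fin.cons_succ] using hmono i
      · refine Fin.cases ?_ (fun i => ?_) i
        · show SmoothOn f _ (Fin.cons (α := fun _ => Closeds X) Z c (0 : Fin (t + 1)).castSucc) _
          rw [Fin.castSucc_zero, Fin.cons_zero, Fin.cons_succ, hc0]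
          exact hsm.mono f le_sup_left
        · rw [Fin.castSucc_succ, Fin.cons_succ, Fin.cons_succ]
          exact (hsmooth i).mono f le_sup_right

end Groth.Agent.SmoothStrat
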