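import Groth.Agent.SmoothStratLib.General

/-!
# Smoothness stratifications over a noetherian base
-/

set_option autoImplicit false
set_option linter.style.haveILetI false
set_option backward.isDefEq.respectTransparency false

universe u

open CategoryTheory CategoryTheory.Limits AlgebraicGeometry TopologicalSpace
open Groth.Agent.GenFlatStrat

noncomputable section

namespace Groth.Agent.SmoothStrat

/-- After a finite locally free cover of `V`, the base change of `f` has smooth strata. -/
def StratOn {X S V : Scheme.{u}} (f : X ⟶ S) (b : V ⟶ S) : Prop :=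
  ∃ (T : Scheme.{u}) (v : T ⟶ V), Surjective v ∧ Mor2.IsFinLocFree v ∧
    HasStrat (pullback.snd f (v ≫ b))

theorem StratOn.transfer {X S X₀ S₀ V V' : Scheme.{u}} {f : X ⟶ S} {f₀ : X₀ ⟶ S₀} {g : X ⟶ X₀}
    {π : S ⟶ S₀} (hP : IsPullback g f f₀ π) {b : V ⟶ S₀} (b' : V' ⟶ S) (k : V' ⟶ V)
    (hk : k ≫ b = b' ≫ π) (h : StratOn f₀ b) : StratOn f b' := by
  obtain ⟨T, v, hs, ⟨hfin, hflat, hfp⟩, hst⟩ := h
  let v' := pullback.fst k v
  let k' := pullback.snd k v
  refine ⟨pullback k v, v', MorphismProperty.pullback_fst _ _ hs,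
    ⟨MorphismProperty.pullback_fst _ _ hfin, MorphismProperty.pullback_fst _ _ hflat,
      MorphismProperty.pullback_fst _ _ hfp⟩, ?_⟩
  have hw : k' ≫ v ≫ b = (v' ≫ b') ≫ π := by
    rw [Category.assoc, ← hk, ← Category.assoc k', ← pullback.condition, Category.assoc]
  have hbig : IsPullback (pullback.fst f (v' ≫ b') ≫ g) (pullback.snd f (v' ≫ b')) f₀
      ((v' ≫ b') ≫ π) :=
    (IsPullback.of_hasPullback f (v' ≫ b')).paste_horiz hP
  let m : pullback f (v' ≫ b') ⟶ pullback f₀ (v ≫ b) :=
    pullback.lift (pullback.fst f (v' ≫ b') ≫ g) (pullback.snd f (v' ≫ b') ≫ k')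
      (by rw [hbig.w, ← hw, Category.assoc])
  refine hst.baseChange (q := m) (b := k') ?_
  refine IsPullback.of_right ?_ (pullback.lift_snd _ _ _) (IsPullback.of_hasPullback f₀ (v ≫ b))
  rw [pullback.lift_fst, hw]
  exact hbig

variable {X S : Scheme.{u}} (f : X ⟶ S) [IsLocallyNoetherian S] [CompactSpace S]
  [LocallyOfFinitePresentation f] [QuasiCompact f] [QuasiSeparated f]

theorem exists_stratOn_smaller (Z : Closeds S) (hZ : Z ≠ ⊥) :
    ∃ Z' < Z, StratOn f (stratumι Z Z') := by
  let I := Scheme.IdealSheafData.vanishingIdeal Z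
  let Y := I.subscheme
  haveI : IsReduced Y := Groth.Agent.DVRCrit.isReduced_vanishingIdeal Z
  have hr : Set.range I.subschemeι = Z := by
    rw [Scheme.IdealSheafData.range_subschemeι, Scheme.IdealSheafData.coe_support_vanishingIdeal]
  obtain ⟨z, hz⟩ : (Z : Set S).Nonempty := Set.nonempty_iff_ne_empty.2 fun h => hZ (Closeds.ext h)
  obtain ⟨y, hy⟩ : z ∈ Set.range I.subschemeι := hr ▸ hz
  let W := irreducibleComponent y
  have hW : W ∈ irreducibleComponents Y := irreducibleComponent_mem_irreducibleComponents y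
  have hWc : IsClosed W := isClosed_irreducibleComponent
  have hη : IsGenericPoint (isIrreducible_irreducibleComponent (x := y)).genericPoint W := by
    have h := (isIrreducible_irreducibleComponent (x := y)).isGenericPoint_genericPoint_closure
    rwa [hWc.closure_eq] at h
  have hmax : ∀ w, w ⤳ (isIrreducible_irreducibleComponent (x := y)).genericPoint →
      w = (isIrreducible_irreducibleComponent (x := y)).genericPoint := by
    intro w hw
    have hle : W ⊆ closure {w} := by
      rw [← hη.def]
      exact closure_minimal (Set.singleton_subset_iff.2 hw.mem_closure) isClosed_closure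
    have he : closure {w} ⊆ W := hW.2 (isIrreducible_singleton.closure) hle
    exact (hw.antisymm (hη.specializes (he (subset_closure rfl)))).eq
  let fY := pullback.snd f I.subschemeι
  haveI : LocallyOfFinitePresentation fY := MorphismProperty.pullback_snd _ _ ‹_›
  haveI : QuasiCompact fY := MorphismProperty.pullback_snd _ _ ‹_›
  haveI : QuasiSeparated fY := MorphismProperty.pullback_snd _ _ ‹_›
  obtain ⟨U, T, v, hU, hs, -, hflf, hst⟩ := exists_near fY _ hmax
  let Z' : Closeds S := ⟨I.subschemeι '' ((U : Set Y)ᶜ),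
    I.subschemeι.isClosedEmbedding.isClosedMap _ U.isOpen.isClosed_compl⟩
  refine ⟨Z', lt_of_le_of_ne ?_ ?_, ?_⟩
  · intro s hs'
    obtain ⟨q, -, rfl⟩ := hs'
    show I.subschemeι q ∈ (Z : Set S)
    rw [← hr]
    exact ⟨q, rfl⟩
  · intro h
    have hm : I.subschemeι (isIrreducible_irreducibleComponent (x := y)).genericPoint ∈ (Z' : Set S) := by
      rw [h, ← hr]
      exact ⟨_, rfl⟩
    obtain ⟨q, hq, hqe⟩ := hm
    exact hq (I.subschemeι.isClosedEmbedding.injective hqe ▸ hU)
  · have hrange : Set.range (U.ι ≫ I.subschemeι) = (Z : Set S) \ (Z' : Set S) := by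
      rw [Scheme.Hom.comp_base, TopCat.coe_comp, Set.range_comp, Scheme.Opens.range_ι]
      show I.subschemeι '' (U : Set I.subscheme) = _
      rw [← hr]
      show _ = Set.range I.subschemeι \ I.subschemeι '' ((U : Set I.subscheme)ᶜ)
      rw [← Set.image_univ, ← Set.image_sdiff I.subschemeι.isClosedEmbedding.injective,
        Set.sdiff_compl, Set.univ_inter]
    haveI : IsReduced (U : Scheme.{u}) := isReduced_of_isOpenImmersion U.ι
    obtain ⟨e, he⟩ := exists_iso_stratum (U.ι ≫ I.subschemeι) hrange
    have hbig : IsPullback (pullback.fst fY (v ≫ U.ι) ≫ pullback.fst f I.subschemeι)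
        (pullback.snd fY (v ≫ U.ι)) f ((v ≫ U.ι) ≫ I.subschemeι) :=
      (IsPullback.of_hasPullback fY (v ≫ U.ι)).paste_horiz (IsPullback.of_hasPullback f I.subschemeι)
    have h₀ : StratOn f (U.ι ≫ I.subschemeι) := by
      refine ⟨T, v, hs, hflf, hst.baseChange (q := (pullback.congrHom rfl (Category.assoc _ _ _).symm).hom ≫
        hbig.isoPullback.inv) (b := 𝟙 _) ?_⟩
      exact IsPullback.of_horiz_isIso ⟨by simp⟩
    exact h₀.transfer (IsPullback.of_id_fst : IsPullback (𝟙 X) f f (𝟙 S)) _ e.hom
      (by rw [he, Category.comp_id])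

/-- A chain of closed subsets from `Z` to `⊥` with smoothness stratifications over the strata. -/
theorem exists_stratOn_chain (Z : Closeds S) :
    ∃ (t : ℕ) (c : Fin (t + 1) → Closeds S), c 0 = Z ∧ c (Fin.last t) = ⊥ ∧
      (∀ i : Fin t, c i.succ ≤ c i.castSucc) ∧
      ∀ i : Fin t, StratOn f (stratumι (c i.castSucc) (c i.succ)) := by
  haveI : IsNoetherian S := {}
  induction Z using WellFoundedLT.induction with
  | ind Z ih =>
    by_cases hZ : Z = ⊥
    · exact ⟨0, fun _ => Z, rfl, hZ, fun i => i.elim0, fun i => i.elim0⟩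
    · obtain ⟨Z', hlt, hfl⟩ := exists_stratOn_smaller f Z hZ
      obtain ⟨t, c, hc0, hct, hmono, hflat⟩ := ih Z' hlt
      refine ⟨t + 1, Fin.cons Z c, rfl, ?_, fun i => ?_, fun i => ?_⟩
      · rw [← Fin.succ_last, Fin.cons_succ, hct]
      · refine Fin.cases ?_ (fun i => ?_) i
        · simpa [Fin.cons_zero, Fin.cons_succ, hc0] using hlt.le
        · simpa [Fin.castSucc_succ, Fin.cons_succ] using hmono i
      · refine Fin.cases ?_ (fun i => ?_) i
        · show StratOn f (stratumι (Fin.cons (α := fun _ => Closeds S) Z c (0 : Fin (t + 1)).castSucc) _)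
          rw [Fin.castSucc_zero, Fin.cons_zero, Fin.cons_succ, hc0]
          exact hfl
        · rw [Fin.castSucc_succ, Fin.cons_succ, Fin.cons_succ]
          exact hflat i

end Groth.Agent.SmoothStrat
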