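import Groth.Agent.GenFlatStratLib.Noeth
import Groth.Agent.ASp.PropDescend
import Mathlib.AlgebraicGeometry.Morphisms.ClosedImmersion
import Mathlib.AlgebraicGeometry.Morphisms.Immersion
import Mathlib.AlgebraicGeometry.Morphisms.Smooth

/-!
# Reduced strata
-/

set_option autoImplicit false
set_option linter.style.haveILetI false

universe u

open CategoryTheory CategoryTheory.Limits AlgebraicGeometry TopologicalSpace
open Groth.Agent.GenFlatStrat

noncomputable section

namespace Groth.Agent.SmoothStrat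

variable {X : Scheme.{u}}

theorem range_stratumι (Z Z' : Closeds X) :
    Set.range (stratumι Z Z') = (Z : Set X) \ (Z' : Set X) := by
  rw [Scheme.Hom.comp_base, TopCat.coe_comp, Set.range_comp, Scheme.Opens.range_ι]
  show (Scheme.IdealSheafData.vanishingIdeal Z).subschemeι ''
    ((Scheme.IdealSheafData.vanishingIdeal Z).subschemeι ⁻¹' ((Z' : Set X)ᶜ)) = _
  rw [Set.image_preimage_eq_inter_range, Scheme.IdealSheafData.range_subschemeι,
    Scheme.IdealSheafData.coe_support_vanishingIdeal, Set.diff_eq, Set.inter_comm]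

theorem isReduced_stratum (Z Z' : Closeds X) : IsReduced (stratum Z Z') := by
  haveI := Groth.Agent.DVRCrit.isReduced_vanishingIdeal (X := X) Z
  exact isReduced_of_isOpenImmersion ((Scheme.IdealSheafData.vanishingIdeal Z).subschemeι ⁻¹ᵁ Z'.compl).ι

/-- Reduced schemes immersed with the same locally closed image are isomorphic. -/
theorem exists_iso_stratum {Z Z' : Closeds X} {T : Scheme.{u}} [IsReduced T] (i : T ⟶ X)
    [IsPreimmersion i] (h : Set.range i = (Z : Set X) \ (Z' : Set X)) :
    ∃ e : stratum Z Z' ≅ T, e.hom ≫ i = stratumι Z Z' := by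
  let O : X.Opens := Z'.compl
  haveI := isReduced_stratum Z Z'
  have key : ∀ {U : Scheme.{u}} (g : U ⟶ X) [IsPreimmersion g]
      (_ : Set.range g = (Z : Set X) \ (Z' : Set X)),
      ∃ g' : U ⟶ O, g' ≫ O.ι = g ∧ IsClosedImmersion g' ∧
        Set.range g' = O.ι ⁻¹' (Z : Set X) := by
    intro U g _ hg
    have hsub : Set.range g ⊆ Set.range O.ι := by
      rw [hg, Scheme.Opens.range_ι]
      exact fun x hx => hx.2
    let g' := IsOpenImmersion.lift O.ι g hsub
    have hfac : g' ≫ O.ι = g := IsOpenImmersion.lift_fac _ _ _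
    haveI : IsPreimmersion (g' ≫ O.ι) := hfac ▸ ‹IsPreimmersion g›
    haveI : IsPreimmersion g' := IsPreimmersion.of_comp g' O.ι
    have hr : Set.range g' = O.ι ⁻¹' (Z : Set X) := by
      ext y
      constructor
      · rintro ⟨x, rfl⟩
        show O.ι (g' x) ∈ (Z : Set X)
        rw [← Scheme.Hom.comp_apply, hfac]
        exact (hg.le ⟨x, rfl⟩).1
      · intro hy
        obtain ⟨x, hx⟩ := hg.ge ⟨hy, y.2⟩
        refine ⟨x, O.ι.isOpenEmbedding.injective ?_⟩
        rw [← Scheme.Hom.comp_apply, hfac]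
        exact hx
    exact ⟨g', hfac, .of_isPreimmersion _ (hr ▸ Z.isClosed.preimage O.ι.continuous), hr⟩
  obtain ⟨a, ha, _, har⟩ := key (stratumι Z Z') (range_stratumι Z Z')
  obtain ⟨b, hb, _, hbr⟩ := key i h
  obtain ⟨u, hu⟩ := Groth.Agent.DVRCrit.exists_factor_closed b a (by rw [har, hbr])
  obtain ⟨v, hv⟩ := Groth.Agent.DVRCrit.exists_factor_closed a b (by rw [har, hbr])
  refine ⟨⟨u, v, ?_, ?_⟩, ?_⟩
  · rw [← cancel_mono a, Category.assoc, hv, hu, Category.id_comp]
  · rw [← cancel_mono b, Category.assoc, hu, hv, Category.id_comp]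
  · rw [← hb, ← ha, ← Category.assoc, hu]

/-- The preimage of a closed set. -/
abbrev pre {Y : Scheme.{u}} (q : Y ⟶ X) (Z : Closeds X) : Closeds Y :=
  Z.preimage q.continuous

/-- Smoothness of a reduced stratum is stable under base change to a reduced base. -/
theorem smooth_stratum_baseChange {X' V V' : Scheme.{u}} {g : X ⟶ V} {g' : X' ⟶ V'} {q : X' ⟶ X}
    {b : V' ⟶ V} (hP : IsPullback q g' g b) [IsReduced V'] (Z Z' : Closeds X)
    [Smooth (stratumι Z Z' ≫ g)] : Smooth (stratumι (pre q Z) (pre q Z') ≫ g') := by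
  let T := pullback (stratumι Z Z') q
  let m : T ⟶ X' := pullback.snd (stratumι Z Z') q
  have hT : IsPullback (pullback.fst (stratumι Z Z') q) (m ≫ g') (stratumι Z Z' ≫ g) b :=
    (IsPullback.of_hasPullback (stratumι Z Z') q).paste_vert hP
  haveI : Smooth (m ≫ g') := MorphismProperty.of_isPullback hT ‹_›
  haveI : IsReduced T := Groth.Agent.ASp.isReduced_of_smooth (m ≫ g')
  haveI : IsPreimmersion m := MorphismProperty.pullback_snd _ _ inferInstance
  obtain ⟨e, he⟩ := exists_iso_stratum (Z := pre q Z) (Z' := pre q Z') m (by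
    rw [Scheme.Pullback.range_snd, range_stratumι]
    rfl)
  rw [← he, Category.assoc]
  infer_instance

end Groth.Agent.SmoothStrat
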